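import Groth.Agent.RankOne.Weyl
import Mathlib.AlgebraicGeometry.Morphisms.Flat
import Mathlib.RingTheory.AdjoinRoot
import Mathlib.RingTheory.Flat.FaithfullyFlat.Algebra

/-!
# The braid relation in a rank one system
-/

set_option autoImplicit false
set_option backward.isDefEq.respectTransparency.types false

universe u

open CategoryTheory CategoryTheory.Limits MonoidalCategory CartesianMonoidalCategory MonObj AlgebraicGeometry

namespace Groth.Agent.RankOne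

/-- A faithfully flat ring containing a root of `k² - k + 1`. -/
theorem exists_flat_surj_root (A : Type u) [CommRing A] [IsDomain A] :
    ∃ (R : CommRingCat.{u}) (φ : CommRingCat.of A ⟶ R) (k : R),
      Flat (Spec.map φ) ∧ Surjective (Spec.map φ) ∧ k * (1 - k) = 1 := by
  let f : Polynomial A := Polynomial.X ^ 2 - Polynomial.X + 1
  have hf : f.Monic := by
    simp only [f]
    monicity!
  have hd : f.degree ≠ 0 := by
    have : f.degree = 2 := by simp only [f]; compute_degree!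
    rw [this]; decide
  haveI : Module.Free A (AdjoinRoot f) := Module.Free.of_basis (AdjoinRoot.powerBasis' hf).basis
  haveI : Nontrivial (AdjoinRoot f) := AdjoinRoot.nontrivial f hd
  refine ⟨CommRingCat.of (AdjoinRoot f), CommRingCat.ofHom (algebraMap A (AdjoinRoot f)), AdjoinRoot.root f, ?_,
    ⟨PrimeSpectrum.comap_surjective_of_faithfullyFlat (A := A) (B := AdjoinRoot f)⟩, ?_⟩
  · rw [Flat.SpecMap_iff]
    exact RingHom.flat_algebraMap_iff.2 inferInstance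
  · show AdjoinRoot.root f * (1 - AdjoinRoot.root f) = 1
    have h := AdjoinRoot.eval₂_root f
    simp [f] at h
    linear_combination -h

/-- After an epimorphic base change there is a root of `k² - k + 1`. -/
theorem exists_epi_root {S : Scheme.{u}} (X : Over S) :
    ∃ (X' : Over S) (g : X' ⟶ X) (k : Γ(X'.left, ⊤)), Epi g ∧ k * (1 - k) = 1 := by
  haveI : IsDomain (ULift.{u} ℤ) := ULift.ringEquiv.toMulEquiv.isDomain ℤ
  obtain ⟨R, φ, k, hfl, hsu, hk⟩ := exists_flat_surj_root (ULift.{u} ℤ)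
  let q := specULiftZIsTerminal.from X.left
  haveI : Epi (pullback.fst q (Spec.map φ)) := Flat.epi_of_flat_of_surjective _
  let X' : Over S := Over.mk (pullback.fst q (Spec.map φ) ≫ X.hom)
  let g : X' ⟶ X := Over.homMk (pullback.fst q (Spec.map φ)) rfl
  haveI : Epi g.left := ‹Epi (pullback.fst q (Spec.map φ))›
  let e : R →+* Γ(X'.left, ⊤) := ((Scheme.ΓSpecIso R).inv ≫ (pullback.snd q (Spec.map φ)).appTop).hom
  refine ⟨X', g, e k, Over.epi_of_epi_left g, ?_⟩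
  rw [← map_one e, ← map_sub, ← map_mul, hk]

variable {S : Scheme.{u}} {G T : Over S} [GrpObj G] [GrpObj T] (i : T ⟶ G) [IsMonHom i]
    (α : T ⟶ Red.Gm S) [IsMonHom α] (pp pm : Red.Ga S ⟶ G) [hPP : IsMonHom pp] [hPM : IsMonHom pm]
    (hpp : ∀ (X : Over S) (t : X ⟶ T) (x : X ⟶ Red.Ga S), ∃ x' : X ⟶ Red.Ga S,
      x' ≫ pp = (t ≫ i) * (x ≫ pp) * (t ≫ i)⁻¹ ∧ Red.gaFn x' = Red.gmFn (t ≫ α) * Red.gaFn x)
    (hpm : ∀ (X : Over S) (t : X ⟶ T) (y : X ⟶ Red.Ga S), ∃ y' : X ⟶ Red.Ga S,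
      y' ≫ pm = (t ≫ i) * (y ≫ pm) * (t ≫ i)⁻¹ ∧ Red.gaFn y' * Red.gmFn (t ≫ α) = Red.gaFn y)
    (av : Red.Gm S ⟶ T) [IsMonHom av] (h2 : av ≫ α = (𝟙 (Red.Gm S)) ^ 2)
    (hF : ∀ (X : Over S) (x y : X ⟶ Red.Ga S), IsUnit (1 + Red.gaFn x * Red.gaFn y) →
      ∃ (x' y' : X ⟶ Red.Ga S) (z : X ⟶ Red.Gm S), Red.gmFn z = 1 + Red.gaFn x * Red.gaFn y ∧
        Red.gaFn x' * Red.gmFn z = Red.gaFn x ∧ Red.gaFn y' * Red.gmFn z = Red.gaFn y ∧
        (x ≫ pp) * (y ≫ pm) = (y' ≫ pm) * (z ≫ av ≫ i) * (x' ≫ pp))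
  {X : Over S}

omit hPM in
theorem inv_comp_neg (p : Red.Ga S ⟶ G) [IsMonHom p] (x y : X ⟶ Red.Ga S) (h : Red.gaFn y = - Red.gaFn x) :
    y ≫ p = (x ≫ p)⁻¹ := by
  apply eq_inv_of_mul_eq_one_left
  exact ((MonObj.mul_comp y x p).symm.trans (comp_eq_of_gaFn p (y := 1)
    (by rw [GaPts.gaFn_mul, h, GaPts.gaFn_one]; ring))).trans (MonObj.one_comp p)

include hPP hPM hpp hpm h2 hF in
theorem braid_of_root (x x' : X ⟶ Red.Ga S) (hx : Red.gaFn x' * Red.gaFn x = -1)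
    (k : Γ(X.left, ⊤)) (hk : k * (1 - k) = 1) :
    (x ≫ pp) * (x' ≫ pm) * (x ≫ pp) = (x' ≫ pm) * (x ≫ pp) * (x' ≫ pm) := by
  obtain ⟨r, hr⟩ := GaPts.gaFn_surjective X (k * Red.gaFn x')
  obtain ⟨s, hs⟩ := GaPts.gaFn_surjective X ((1 - k) * Red.gaFn x')
  obtain ⟨nx, hnx⟩ := GaPts.gaFn_surjective X (- Red.gaFn x)
  obtain ⟨ns, hns⟩ := GaPts.gaFn_surjective X (- Red.gaFn s)
  have esplit : x' ≫ pm = (r ≫ pm) * (s ≫ pm) :=
    (comp_eq_of_gaFn pm (y := r * s) (by rw [GaPts.gaFn_mul, hr, hs]; ring)).trans (MonObj.mul_comp r s pm)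
  have h1 : 1 + Red.gaFn x * Red.gaFn r = 1 - k := by rw [hr]; linear_combination k * hx
  obtain ⟨p₁, q₁, z, hz, hp₁, hq₁, e1⟩ := hF X x r (h1 ▸ IsUnit.of_mul_eq_one k ((mul_comm _ _).trans hk))
  have h2' : 1 + Red.gaFn nx * Red.gaFn ns = k := by rw [hnx, hns, hs]; linear_combination (1 - k) * hx
  obtain ⟨p₂, q₂, z', hz', hp₂, hq₂, e2⟩ := hF X nx ns (h2' ▸ IsUnit.of_mul_eq_one _ hk)
  rw [h1] at hz
  rw [h2'] at hz'
  have hzz : z' = z⁻¹ := by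
    rw [eq_inv_iff_mul_eq_one]
    exact GmPts.gmFn_injective (show Red.gmFn (z' * z) = Red.gmFn 1 by rw [GmPts.gmFn_mul, GmPts.gmFn_one, hz, hz', hk])
  rw [hz] at hp₁ hq₁
  rw [hz'] at hp₂ hq₂
  rw [hnx] at hp₂
  rw [hns, hs] at hq₂
  have a1 : Red.gaFn p₁ = k * Red.gaFn x := by linear_combination k * hp₁ - Red.gaFn p₁ * hk
  have b1 : Red.gaFn q₁ = k * k * Red.gaFn x' := by
    rw [hr] at hq₁; linear_combination k * hq₁ - Red.gaFn q₁ * hk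
  have a2 : Red.gaFn p₂ = -((1 - k) * Red.gaFn x) := by linear_combination (1 - k) * hp₂ - Red.gaFn p₂ * hk
  have b2 : Red.gaFn q₂ = -((1 - k) * (1 - k) * Red.gaFn x') := by
    linear_combination (1 - k) * hq₂ - Red.gaFn q₂ * hk
  obtain ⟨p₂', hp₂'⟩ := GaPts.gaFn_surjective X (- Red.gaFn p₂)
  obtain ⟨q₂', hq₂'⟩ := GaPts.gaFn_surjective X (- Red.gaFn q₂)
  rw [hzz, inv_comp_neg (G := G) pp x nx hnx, inv_comp_neg (G := G) pm s ns hns,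
    GrpObj.inv_comp z (av ≫ i)] at e2
  have e2' : (s ≫ pm) * (x ≫ pp) = (p₂' ≫ pp) * (z ≫ av ≫ i) * (q₂' ≫ pm) := by
    rw [inv_comp_neg (G := G) pp p₂ p₂' hp₂', inv_comp_neg (G := G) pm q₂ q₂' hq₂',
      show (s ≫ pm) * (x ≫ pp) = ((x ≫ pp)⁻¹ * (s ≫ pm)⁻¹)⁻¹ by group, e2]
    group
  have emid : (p₁ ≫ pp) * (p₂' ≫ pp) = x ≫ pp :=
    (MonObj.mul_comp p₁ p₂' pp).symm.trans (comp_eq_of_gaFn pp (by rw [GaPts.gaFn_mul, hp₂', a1, a2]; ring))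
  obtain ⟨b, hb⟩ := GaPts.gaFn_surjective X ((1 - k) * (1 - k) * Red.gaFn x)
  have c1 : (z ≫ av ≫ i) * (x ≫ pp) * (z ≫ av ≫ i)⁻¹ = b ≫ pp := by
    rw [← Category.assoc]
    exact conj_pp i α pp hpp (z ≫ av) x b (by rw [gmFn_coroot α av h2, hz, hb])
  have c2 : (z ≫ av ≫ i) * (x' ≫ pm) * (z ≫ av ≫ i)⁻¹ = q₁ ≫ pm := by
    rw [← Category.assoc]
    exact conj_pm i α pm hpm (z ≫ av) x' q₁
      (by rw [gmFn_coroot α av h2, hz, b1]; linear_combination (k * (1 - k) + 1) * Red.gaFn x' * hk)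
  have c3 : ((z ≫ av ≫ i) * (z ≫ av ≫ i)) * (q₂' ≫ pm) * ((z ≫ av ≫ i) * (z ≫ av ≫ i))⁻¹ = q₁ ≫ pm := by
    have : (z ≫ av ≫ i) * (q₂' ≫ pm) * (z ≫ av ≫ i)⁻¹ = x' ≫ pm := by
      rw [← Category.assoc]
      exact conj_pm i α pm hpm (z ≫ av) q₂' x'
        (by rw [gmFn_coroot α av h2, hz, hq₂', b2]; ring)
    rw [← c2, ← this]; group
  have hW := weyl_mul_coroot i α pp pm hpp hpm av h2 hF x x' hx z
  have key : (x ≫ pp) * (x' ≫ pm) * (x ≫ pp) =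
      (z ≫ av ≫ i) * ((x' ≫ pm) * (x ≫ pp) * (x' ≫ pm)) * (z ≫ av ≫ i) := by
    calc (x ≫ pp) * (x' ≫ pm) * (x ≫ pp)
        = ((x ≫ pp) * (r ≫ pm)) * ((s ≫ pm) * (x ≫ pp)) := by rw [esplit]; group
      _ = (q₁ ≫ pm) * (z ≫ av ≫ i) * ((p₁ ≫ pp) * (p₂' ≫ pp)) * (z ≫ av ≫ i) * (q₂' ≫ pm) := by
          rw [e1, e2']; group
      _ = (q₁ ≫ pm) * ((z ≫ av ≫ i) * (x ≫ pp) * (z ≫ av ≫ i)⁻¹) *
            (((z ≫ av ≫ i) * (z ≫ av ≫ i)) * (q₂' ≫ pm) * ((z ≫ av ≫ i) * (z ≫ av ≫ i))⁻¹) *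
            ((z ≫ av ≫ i) * (z ≫ av ≫ i)) := by rw [emid]; group
      _ = _ := by rw [c3, c1, ← c2, ← c1]; group
  generalize (x ≫ pp) * (x' ≫ pm) * (x ≫ pp) = W at hW key ⊢
  generalize (x' ≫ pm) * (x ≫ pp) * (x' ≫ pm) = W' at key ⊢
  generalize z ≫ av ≫ i = c at hW key
  calc W = c⁻¹ * (c * W) := by group
    _ = c⁻¹ * (W * c⁻¹) := by rw [hW]
    _ = W' := by rw [key]; group

include hPP hPM hpp hpm h2 hF in
/-- The braid relation. -/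
theorem braid (x x' : X ⟶ Red.Ga S) (hx : Red.gaFn x' * Red.gaFn x = -1) :
    (x ≫ pp) * (x' ≫ pm) * (x ≫ pp) = (x' ≫ pm) * (x ≫ pp) * (x' ≫ pm) := by
  obtain ⟨X', g, k, hg, hk⟩ := exists_epi_root X
  rw [← cancel_epi g, MonObj.comp_mul, MonObj.comp_mul, MonObj.comp_mul, MonObj.comp_mul,
    ← Category.assoc, ← Category.assoc g x' pm]
  exact braid_of_root i α pp pm hpp hpm av h2 hF (g ≫ x) (g ≫ x')
    (by rw [GaPts.gaFn_comp, GaPts.gaFn_comp, ← map_mul, hx, map_neg, map_one]) k hk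

include hPP hPM hpp hpm h2 hF in
/-- The Weyl element exchanges the two root elements. -/
theorem weyl_conj_root (x x' : X ⟶ Red.Ga S) (hx : Red.gaFn x' * Red.gaFn x = -1) :
    ((x ≫ pp) * (x' ≫ pm) * (x ≫ pp)) * (x ≫ pp) * ((x ≫ pp) * (x' ≫ pm) * (x ≫ pp))⁻¹ = x' ≫ pm ∧
    ((x ≫ pp) * (x' ≫ pm) * (x ≫ pp)) * (x' ≫ pm) * ((x ≫ pp) * (x' ≫ pm) * (x ≫ pp))⁻¹ = x ≫ pp := by
  have h := braid i α pp pm hpp hpm av h2 hF x x' hx
  generalize x ≫ pp = P at h ⊢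
  generalize x' ≫ pm = Q at h ⊢
  constructor
  · calc P * Q * P * P * (P * Q * P)⁻¹ = (P * Q * P) * P * (P * Q * P)⁻¹ := by group
      _ = (Q * P * Q) * P * (P * Q * P)⁻¹ := by rw [h]
      _ = Q * ((P * Q * P) * (P * Q * P)⁻¹) := by group
      _ = Q := by group
  · calc P * Q * P * Q * (P * Q * P)⁻¹ = P * (Q * P * Q) * (P * Q * P)⁻¹ := by group
      _ = P * (P * Q * P) * (P * Q * P)⁻¹ := by rw [h]
      _ = P := by group

end Groth.Agent.RankOne
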