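import Groth.Agent.GaPts.Basic
import Groth.Prelude.Def_GmPts

/-!
# The Weyl element of a rank one system
-/

set_option autoImplicit false
set_option backward.isDefEq.respectTransparency.types false

universe u

open CategoryTheory CategoryTheory.Limits MonoidalCategory CartesianMonoidalCategory MonObj AlgebraicGeometry

namespace Groth.Agent.RankOne

variable {S : Scheme.{u}} {G T : Over S} [GrpObj G] [GrpObj T] (i : T ⟶ G) [IsMonHom i]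
    (α : T ⟶ Red.Gm S) [IsMonHom α] (pp pm : Red.Ga S ⟶ G) [hPP : IsMonHom pp] [hPM : IsMonHom pm]
    (hpp : ∀ (X : Over S) (t : X ⟶ T) (x : X ⟶ Red.Ga S), ∃ x' : X ⟶ Red.Ga S,
      x' ≫ pp = (t ≫ i) * (x ≫ pp) * (t ≫ i)⁻¹ ∧ Red.gaFn x' = Red.gmFn (t ≫ α) * Red.gaFn x)
    (hpm : ∀ (X : Over S) (t : X ⟶ T) (y : X ⟶ Red.Ga S), ∃ y' : X ⟶ Red.Ga S,
      y' ≫ pm = (t ≫ i) * (y ≫ pm) * (t ≫ i)⁻¹ ∧ Red.gaFn y' * Red.gmFn (t ≫ α) = Red.gaFn y)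
    (av : Red.Gm S ⟶ T) [IsMonHom av] (h2 : av ≫ α = (𝟙 (Red.Gm S)) ^ 2)
    (hF : ∀ (X : Over S) (x y : X ⟶ Red.Ga S), IsUnit (1 + Red.gaFn x * Red.gaFn y) →
      ∃ (x' y' : X ⟶ Red.Ga S) (z : X ⟶ Red.Gm S), Red.gmFn z = 1 + Red.gaFn x * Red.gaFn y ∧
        Red.gaFn x' * Red.gmFn z = Red.gaFn x ∧ Red.gaFn y' * Red.gmFn z = Red.gaFn y ∧
        (x ≫ pp) * (y ≫ pm) = (y' ≫ pm) * (z ≫ av ≫ i) * (x' ≫ pp))
  {X : Over S}

omit [GrpObj G] in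
theorem comp_eq_of_gaFn (p : Red.Ga S ⟶ G) {x y : X ⟶ Red.Ga S} (h : Red.gaFn x = Red.gaFn y) : x ≫ p = y ≫ p :=
  congrArg (· ≫ p) (GaPts.gaFn_injective X h)

include hpp in
/-- Conjugation of a point of the positive root group. -/
theorem conj_pp (t : X ⟶ T) (x y : X ⟶ Red.Ga S) (h : Red.gaFn y = Red.gmFn (t ≫ α) * Red.gaFn x) :
    (t ≫ i) * (x ≫ pp) * (t ≫ i)⁻¹ = y ≫ pp := by
  obtain ⟨x', h1, h2⟩ := hpp X t x
  rw [← h1]
  exact comp_eq_of_gaFn pp (h2.trans h.symm)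

include hpm in
/-- Conjugation of a point of the negative root group. -/
theorem conj_pm (t : X ⟶ T) (x y : X ⟶ Red.Ga S) (h : Red.gaFn y * Red.gmFn (t ≫ α) = Red.gaFn x) :
    (t ≫ i) * (x ≫ pm) * (t ≫ i)⁻¹ = y ≫ pm := by
  obtain ⟨x', h1, h2⟩ := hpm X t x
  rw [← h1]
  exact comp_eq_of_gaFn pm ((GmPts.isUnit_gmFn (t ≫ α)).mul_left_injective (h2.trans h.symm))

include hpp hpm in
/-- Conjugation of a Weyl element by a point of the torus. -/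
theorem conj_weyl (t : X ⟶ T) (x x' y y' : X ⟶ Red.Ga S) (hy : Red.gaFn y = Red.gmFn (t ≫ α) * Red.gaFn x)
    (hy' : Red.gaFn y' * Red.gmFn (t ≫ α) = Red.gaFn x') :
    (t ≫ i) * ((x ≫ pp) * (x' ≫ pm) * (x ≫ pp)) * (t ≫ i)⁻¹ = (y ≫ pp) * (y' ≫ pm) * (y ≫ pp) := by
  rw [← conj_pp i α pp hpp t x y hy, ← conj_pm i α pm hpm t x' y' hy']
  group

omit [IsMonHom α] in
include h2 in
theorem gmFn_coroot (z : X ⟶ Red.Gm S) : Red.gmFn ((z ≫ av) ≫ α) = Red.gmFn z * Red.gmFn z := by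
  rw [Category.assoc, h2, pow_two, MonObj.comp_mul, Category.comp_id, GmPts.gmFn_mul]

include hPP hPM hpp hpm h2 hF in
/-- Scaling of a Weyl element. -/
theorem weyl_scale (z : X ⟶ Red.Gm S) (x x' y y' : X ⟶ Red.Ga S) (hx : Red.gaFn x' * Red.gaFn x = -1)
    (hy : Red.gaFn y = Red.gmFn z * Red.gaFn x) (hy' : Red.gaFn y' * Red.gaFn y = -1) :
    (y ≫ pp) * (y' ≫ pm) * (y ≫ pp) = (z ≫ av ≫ i) * ((x ≫ pp) * (x' ≫ pm) * (x ≫ pp)) := by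
  obtain ⟨a, ha⟩ : ∃ a, a = Red.gaFn x := ⟨_, rfl⟩
  obtain ⟨a', ha'⟩ : ∃ a', a' = Red.gaFn x' := ⟨_, rfl⟩
  obtain ⟨u, hu⟩ : ∃ u, u = Red.gmFn z := ⟨_, rfl⟩
  obtain ⟨v, hv⟩ : ∃ v, v = Red.gmFn z⁻¹ := ⟨_, rfl⟩
  have huv : u * v = 1 := by rw [hu, hv, ← GmPts.gmFn_mul, mul_inv_cancel, GmPts.gmFn_one]
  have hb : Red.gaFn y' = a' * v := by
    have h1 : (Red.gaFn y' - a' * v) * (u * a) = 0 := by
      rw [hy, ← hu, ← ha] at hy'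
      rw [← ha, ← ha'] at hx
      linear_combination hy' - (u * v) * hx + huv
    have h3 : IsUnit (u * a) := ⟨⟨u * a, -(v * a'), by rw [← ha, ← ha'] at hx; linear_combination -(u * v) * hx + huv,
      by rw [← ha, ← ha'] at hx; linear_combination -(u * v) * hx + huv⟩, rfl⟩
    exact sub_eq_zero.1 (h3.mul_left_eq_zero.1 h1)
  obtain ⟨p, hp⟩ := GaPts.gaFn_surjective X (u * a * (u - 1))
  obtain ⟨q, hq⟩ := GaPts.gaFn_surjective X (a' * v * v)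
  obtain ⟨p₂, hp₂⟩ := GaPts.gaFn_surjective X (u * u * a)
  obtain ⟨r, hr⟩ := GaPts.gaFn_surjective X (a * (u - 1))
  have hx' : a' * a = -1 := by rw [ha, ha']; exact hx
  have hpq : 1 + Red.gaFn p * Red.gaFn q = v := by
    rw [hp, hq]
    linear_combination (u - 1) * u * v * v * hx' + (-(u - 1) * v - 1) * huv
  obtain ⟨p', q', w, hw, hp', hq', heq⟩ := hF X p q (hpq ▸ ⟨⟨v, u, (mul_comm v u).trans huv, huv⟩, rfl⟩)
  have hwz : w = z⁻¹ := GmPts.gmFn_injective (hw.trans (hpq.trans hv))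
  subst hwz
  rw [← hv] at hp' hq'
  have hp'' : Red.gaFn p' = u * u * a * (u - 1) := by
    rw [hp] at hp'
    linear_combination u * hp' - Red.gaFn p' * huv
  have hq'' : Red.gaFn q' = a' * v := by
    rw [hq] at hq'
    linear_combination u * hq' - (Red.gaFn q' - a' * v) * huv
  -- move the torus point to the right
  have e1 : (z ≫ av ≫ i) * ((x ≫ pp) * (x' ≫ pm) * (x ≫ pp)) * (z ≫ av ≫ i)⁻¹ =
      (p₂ ≫ pp) * (q ≫ pm) * (p₂ ≫ pp) := by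
    rw [← Category.assoc]
    exact conj_weyl i α pp pm hpp hpm (z ≫ av) x x' p₂ q
      (by rw [gmFn_coroot α av h2, ← hu, ← ha, hp₂])
      (by rw [gmFn_coroot α av h2, ← hu, ← ha', hq]; linear_combination a' * (u * v + 1) * huv)
  have e2 : (z ≫ av ≫ i) * (r ≫ pp) * (z ≫ av ≫ i)⁻¹ = p' ≫ pp := by
    rw [← Category.assoc]
    exact conj_pp i α pp hpp (z ≫ av) r p' (by rw [gmFn_coroot α av h2, ← hu, hr, hp'']; ring)
  have e3 : (z⁻¹ ≫ av ≫ i) = (z ≫ av ≫ i)⁻¹ := GrpObj.inv_comp z (av ≫ i)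
  rw [e3] at heq
  have e4 : (p₂ ≫ pp) = (y ≫ pp) * (p ≫ pp) := by
    exact (comp_eq_of_gaFn pp (y := y * p) (by rw [GaPts.gaFn_mul, hp₂, hp, hy, ← hu, ← ha]; ring)).trans (MonObj.mul_comp y p pp)
  have e5 : (r ≫ pp) * (x ≫ pp) = y ≫ pp := by
    exact (MonObj.mul_comp r x pp).symm.trans (comp_eq_of_gaFn pp (by rw [GaPts.gaFn_mul, hr, hy, ← hu, ← ha]; ring))
  have e6 : q' ≫ pm = y' ≫ pm := comp_eq_of_gaFn pm (hq''.trans hb.symm)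
  symm
  calc (z ≫ av ≫ i) * ((x ≫ pp) * (x' ≫ pm) * (x ≫ pp))
      = ((z ≫ av ≫ i) * ((x ≫ pp) * (x' ≫ pm) * (x ≫ pp)) * (z ≫ av ≫ i)⁻¹) * (z ≫ av ≫ i) := by group
    _ = (y ≫ pp) * ((p ≫ pp) * (q ≫ pm)) * ((p₂ ≫ pp) * (z ≫ av ≫ i)) := by rw [e1, e4]; group
    _ = (y ≫ pp) * ((q' ≫ pm) * (z ≫ av ≫ i)⁻¹ * (p' ≫ pp)) * ((p₂ ≫ pp) * (z ≫ av ≫ i)) := by rw [heq]
    _ = _ := by
      have e7 : (p₂ ≫ pp) = (z ≫ av ≫ i) * (x ≫ pp) * (z ≫ av ≫ i)⁻¹ := by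
        rw [← Category.assoc]
        exact (conj_pp i α pp hpp (z ≫ av) x p₂ (by rw [gmFn_coroot α av h2, ← hu, ← ha, hp₂])).symm
      rw [← e2, e7, e6, ← e5]
      group

include hPP hPM hpp hpm h2 hF in
/-- The Weyl element normalises the torus. -/
theorem weyl_conj_torus (x x' : X ⟶ Red.Ga S) (hx : Red.gaFn x' * Red.gaFn x = -1) (t : X ⟶ T) :
    ((x ≫ pp) * (x' ≫ pm) * (x ≫ pp)) * (t ≫ i) * ((x ≫ pp) * (x' ≫ pm) * (x ≫ pp))⁻¹ =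
      (t ≫ α ≫ av ≫ i)⁻¹ * (t ≫ i) := by
  obtain ⟨y, hy⟩ := GaPts.gaFn_surjective X (Red.gmFn (t ≫ α) * Red.gaFn x)
  obtain ⟨y', hy'⟩ := GaPts.gaFn_surjective X (Red.gaFn x' * Red.gmFn (t ≫ α)⁻¹)
  have h1 : Red.gmFn (t ≫ α) * Red.gmFn (t ≫ α)⁻¹ = 1 := by rw [← GmPts.gmFn_mul, mul_inv_cancel, GmPts.gmFn_one]
  have e1 := conj_weyl i α pp pm hpp hpm t x x' y y' hy (by rw [hy']; linear_combination Red.gaFn x' * h1)
  have e2 := weyl_scale i α pp pm hpp hpm av h2 hF (t ≫ α) x x' y y' hx hy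
    (by rw [hy', hy]; linear_combination (Red.gmFn (t ≫ α) * Red.gmFn (t ≫ α)⁻¹) * hx - h1)
  rw [e2, Category.assoc] at e1
  generalize (x ≫ pp) * (x' ≫ pm) * (x ≫ pp) = w at e1 ⊢
  generalize t ≫ α ≫ av ≫ i = c at e1 ⊢
  generalize t ≫ i = s at e1 ⊢
  have h3 : c = s * w * s⁻¹ * w⁻¹ := by rw [e1]; group
  rw [h3]; group

include hPP hPM hpp hpm h2 hF in
/-- Right scaling of a Weyl element. -/
theorem weyl_mul_coroot (x x' : X ⟶ Red.Ga S) (hx : Red.gaFn x' * Red.gaFn x = -1) (z : X ⟶ Red.Gm S) :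
    (z ≫ av ≫ i) * ((x ≫ pp) * (x' ≫ pm) * (x ≫ pp)) = ((x ≫ pp) * (x' ≫ pm) * (x ≫ pp)) * (z ≫ av ≫ i)⁻¹ := by
  have h := weyl_conj_torus i α pp pm hpp hpm av h2 hF x x' hx (z ≫ av)
  have hc : (z ≫ av) ≫ α ≫ av ≫ i = (z ≫ av ≫ i) * (z ≫ av ≫ i) := by
    rw [Category.assoc z av, ← Category.assoc av α, h2, pow_two, MonObj.mul_comp, Category.id_comp, MonObj.comp_mul]
  rw [hc, Category.assoc] at h
  generalize (x ≫ pp) * (x' ≫ pm) * (x ≫ pp) = w at h ⊢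
  generalize z ≫ av ≫ i = s at h ⊢
  have h3 : w * s * w⁻¹ = s⁻¹ := h.trans (by group)
  have h4 : w * s⁻¹ * w⁻¹ = s := by
    rw [← inv_inj, show (w * s⁻¹ * w⁻¹)⁻¹ = w * s * w⁻¹ by group, h3]
  calc s * w = w * s⁻¹ * w⁻¹ * w := by rw [h4]
    _ = w * s⁻¹ := by group

include hPP hPM hpp hpm h2 hF in
/-- Products of Weyl elements. -/
theorem weyl_mul_weyl (x x' y y' : X ⟶ Red.Ga S) (hx : Red.gaFn x' * Red.gaFn x = -1) (hy : Red.gaFn y' * Red.gaFn y = -1)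
    (m n : X ⟶ Red.Gm S) (hm : Red.gmFn m * Red.gaFn y = - Red.gaFn x) (hn : Red.gmFn n = -1) :
    ((x ≫ pp) * (x' ≫ pm) * (x ≫ pp)) * ((y ≫ pp) * (y' ≫ pm) * (y ≫ pp)) = m ≫ av ≫ i := by
  obtain ⟨ny, hny⟩ := GaPts.gaFn_surjective X (-Red.gaFn y)
  obtain ⟨ny', hny'⟩ := GaPts.gaFn_surjective X (-Red.gaFn y')
  have e1 := weyl_scale i α pp pm hpp hpm av h2 hF n y y' ny ny' hy (by rw [hny, hn]; ring)
    (by rw [hny, hny']; linear_combination hy)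
  have i1 : ny ≫ pp = (y ≫ pp)⁻¹ := by
    apply eq_inv_of_mul_eq_one_left
    exact ((MonObj.mul_comp ny y pp).symm.trans (comp_eq_of_gaFn pp (y := 1) (by rw [GaPts.gaFn_mul, hny, GaPts.gaFn_one]; ring))).trans (MonObj.one_comp pp)
  have i2 : ny' ≫ pm = (y' ≫ pm)⁻¹ := by
    apply eq_inv_of_mul_eq_one_left
    exact ((MonObj.mul_comp ny' y' pm).symm.trans (comp_eq_of_gaFn pm (y := 1) (by rw [GaPts.gaFn_mul, hny', GaPts.gaFn_one]; ring))).trans (MonObj.one_comp pm)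
  rw [i1, i2] at e1
  have e2 := weyl_scale i α pp pm hpp hpm av h2 hF (m * n) y y' x x' hy
    (by rw [GmPts.gmFn_mul, hn]; linear_combination hm) hx
  rw [e2, MonObj.mul_comp]
  generalize (y ≫ pp) = P at e1 ⊢
  generalize (y' ≫ pm) = Q at e1 ⊢
  generalize n ≫ av ≫ i = N at e1 ⊢
  calc m ≫ av ≫ i * N * (P * Q * P) * (P * Q * P)
      = (m ≫ av ≫ i) * (N * (P * Q * P)) * (P * Q * P) := by group
    _ = m ≫ av ≫ i := by rw [← e1]; group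

end Groth.Agent.RankOne
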